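import Groth.Agent.HilbStab.Pure
import Groth.Agent.OmegaSheaf.IdealMod
import Groth.Agent.DerivedCoh.KFlat.SchemeStalk
import Groth.Agent.QCohMod.Affine
import Groth.Prelude.Def_ParBun

/-!
# The quotient by `I · E` is supported on `V(I)`
-/

set_option autoImplicit false

universe u

open CategoryTheory CategoryTheory.Limits AlgebraicGeometry TopologicalSpace
open Groth.PicAux

namespace Groth.HilbStab.Par

variable {X : Scheme.{u}}

theorem twistMap_app (I : X.IdealSheafData) (E : X.Modules) (W : X.Opens) (t : Γ(E, W))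
    (e : Γ(ClSub.idealMod I, W)) :
    (ParSh.twistMap I E).app W (tmulSec t e) = (OmegaSh.idealSect I W e : Γ(X, W)) • t := by
  have h0 : ParSh.twistMap I E =
      ((DCoh.tensorBi (X := X)).obj E).map (ClSub.idealModι I) ≫ (SecTwist.unitorR E).hom := by
    rw [ParSh.twistMap, KoszTw.tensorMap, CategoryTheory.Functor.map_id]
    exact congrArg (· ≫ _) (Category.id_comp _)
  rw [h0]
  change (SecTwist.unitorR E).hom.app W
    ((((DCoh.tensorBi (X := X)).obj E).map (ClSub.idealModι I)).app W (tmulSec t e)) = _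
  rw [DerivedCoh.KFlat.tensorMap_tmulSec]
  exact SecTwist.unitorR_tmul E W t _

theorem surjective_stalk_twistMap (I : X.IdealSheafData) (E : X.Modules) {x : X}
    (hx : x ∉ (I.support : Set X)) :
    Function.Surjective (RefHull.stalkMapₗ (ParSh.twistMap I E) x) := by
  intro v
  obtain ⟨U, hxU, t, rfl⟩ := TopCat.Presheaf.exists_germ_eq E.presheaf v
  obtain ⟨W, hW, hxW, hWU⟩ := exists_isAffineOpen_mem_and_subset (X := X) hxU
  obtain ⟨r, hr, hrx⟩ : ∃ r ∈ I.ideal ⟨W, hW⟩, x ∈ X.basicOpen r := by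
    by_contra hcon
    push Not at hcon
    refine hx ?_
    have hmem : x ∈ (I.support : Set X) ∩ (W : Set X) := by
      rw [show (I.support : Set X) ∩ (W : Set X) = _ from I.coe_support_inter ⟨W, hW⟩]
      exact ⟨(Scheme.mem_zeroLocus_iff _ _ x).mpr fun r hr => hcon r hr, hxW⟩
    exact hmem.1
  obtain ⟨e, he⟩ := OmegaSheaf.exists_idealSect I ⟨W, hW⟩ hr
  have hu : IsUnit (X.presheaf.germ W x hxW r) := (X.mem_basicOpen r x hxW).mp hrx
  obtain ⟨c, hc⟩ := hu.exists_left_inv
  let t' : Γ(E, W) := E.presheaf.map (homOfLE hWU).op t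
  refine ⟨c • (CohB1.tensorMod E (ClSub.idealMod I)).presheaf.germ W x hxW (tmulSec t' e), ?_⟩
  rw [map_smul, RefHull.stalkMapₗ_germ, twistMap_app, he, Mero.germ_smul, smul_smul, hc, one_smul]
  exact TopCat.Presheaf.germ_res_apply E.presheaf (homOfLE hWU) x hxW t

/-- The quotient `E / I·E` is supported on `V(I)`. -/
theorem support_cokernel_twistSub_subset (I : X.IdealSheafData) (E : X.Modules) :
    CohB1.support (cokernel (ParSh.twistSub I E).arrow) ⊆ CohB1.support E ∩ (I.support : Set X) := by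
  refine Set.subset_inter (KTheory.Devissage.support_subset_of_epi (cokernel.π _)) fun x hx => ?_
  by_contra hxI
  refine hx ⟨fun a b => ?_⟩
  suffices key : ∀ a : (cokernel (ParSh.twistSub I E).arrow).presheaf.stalk x, a = 0 from
    (key a).trans (key b).symm
  intro a
  obtain ⟨v, rfl⟩ : ∃ v, RefHull.stalkMapₗ (cokernel.π (ParSh.twistSub I E).arrow) x v = a :=
    (QCohMod.epi_iff_stalk (cokernel.π (ParSh.twistSub I E).arrow)).mp inferInstance x a
  obtain ⟨w, rfl⟩ := surjective_stalk_twistMap I E hxI v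
  have h0 : ParSh.twistMap I E ≫ cokernel.π (ParSh.twistSub I E).arrow = 0 := by
    change ParSh.twistMap I E ≫ cokernel.π (imageSubobject (ParSh.twistMap I E)).arrow = 0
    conv_lhs => arg 1; rw [← imageSubobject_arrow_comp (ParSh.twistMap I E)]
    rw [Category.assoc, cokernel.condition, comp_zero]
  obtain ⟨U, hxU, s, rfl⟩ := TopCat.Presheaf.exists_germ_eq
    (CohB1.tensorMod E (ClSub.idealMod I)).presheaf w
  rw [RefHull.stalkMapₗ_germ, RefHull.stalkMapₗ_germ]
  change (cokernel (ParSh.twistSub I E).arrow).presheaf.germ U x hxU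
    ((ParSh.twistMap I E ≫ cokernel.π (ParSh.twistSub I E).arrow).app U s) = 0
  rw [h0]
  exact map_zero _

end Groth.HilbStab.Par
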