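import Groth.Agent.HilbStab.Saturate
import Groth.Agent.HilbStab.Par.Support
import Groth.Prelude.Def_W4swparbununimodPar
import Mathlib.Analysis.Polynomial.Basic

/-!
# Parabolic structures: pieces, weights, parabolic Hilbert polynomials
-/

set_option autoImplicit false

universe u

open CategoryTheory CategoryTheory.Limits AlgebraicGeometry Polynomial
open W4swparbununimod

namespace Groth.HilbStab.Par

section Real

/-- Eventual comparison on natural numbers. -/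
def EvLE (f g : ℝ[X]) : Prop := ∃ M : ℕ, ∀ m : ℕ, M ≤ m → f.eval (m : ℝ) ≤ g.eval (m : ℝ)

theorem EvLE.refl (f : ℝ[X]) : EvLE f f := ⟨0, fun _ _ => le_rfl⟩

theorem EvLE.trans {f g h : ℝ[X]} (h₁ : EvLE f g) (h₂ : EvLE g h) : EvLE f h := by
  obtain ⟨M, hM⟩ := h₁
  obtain ⟨N, hN⟩ := h₂
  exact ⟨max M N, fun m hm =>
    (hM m (le_of_max_le_left hm)).trans (hN m (le_of_max_le_right hm))⟩

theorem EvLE.add {f g f' g' : ℝ[X]} (h₁ : EvLE f g) (h₂ : EvLE f' g') : EvLE (f + f') (g + g') := by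
  obtain ⟨M, hM⟩ := h₁
  obtain ⟨N, hN⟩ := h₂
  refine ⟨max M N, fun m hm => ?_⟩
  rw [eval_add, eval_add]
  exact add_le_add (hM m (le_of_max_le_left hm)) (hN m (le_of_max_le_right hm))

theorem EvLE.sum {ι : Type*} (s : Finset ι) {f g : ι → ℝ[X]} (h : ∀ i ∈ s, EvLE (f i) (g i)) :
    EvLE (∑ i ∈ s, f i) (∑ i ∈ s, g i) := by
  classical
  induction s using Finset.induction_on with
  | empty => exact EvLE.refl _
  | @insert a s ha ih =>
    rw [Finset.sum_insert ha, Finset.sum_insert ha]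
    exact (h a (Finset.mem_insert_self _ _)).add (ih fun i hi => h i (Finset.mem_insert_of_mem hi))

theorem EvLE.mul_C {f g : ℝ[X]} (h : EvLE f g) {a : ℝ} (ha : 0 ≤ a) : EvLE (f * C a) (g * C a) := by
  obtain ⟨M, hM⟩ := h
  refine ⟨M, fun m hm => ?_⟩
  rw [eval_mul, eval_mul, eval_C]
  exact mul_le_mul_of_nonneg_right (hM m hm) ha

theorem EvLE.C_mul {f g : ℝ[X]} (h : EvLE f g) {a : ℝ} (ha : 0 ≤ a) : EvLE (C a * f) (C a * g) := by
  rw [mul_comm (C a), mul_comm (C a)]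
  exact h.mul_C ha

theorem EvLE.sub_nonneg {f g : ℝ[X]} (h : EvLE f g) : EvLE 0 (g - f) := by
  obtain ⟨M, hM⟩ := h
  exact ⟨M, fun m hm => by rw [eval_zero, eval_sub]; linarith [hM m hm]⟩

theorem evLE_of_sub {f g : ℝ[X]} (h : EvLE 0 (g - f)) : EvLE f g := by
  obtain ⟨M, hM⟩ := h
  refine ⟨M, fun m hm => ?_⟩
  have := hM m hm
  rw [eval_zero, eval_sub] at this
  linarith

theorem leadingCoeff_nonneg_of_evLE {f : ℝ[X]} (h : EvLE 0 f) : 0 ≤ f.leadingCoeff := by
  obtain ⟨M, hM⟩ := h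
  by_contra hneg
  push Not at hneg
  rcases Nat.eq_zero_or_pos f.natDegree with hd | hd
  · have h1 := hM M le_rfl
    rw [eq_C_of_natDegree_eq_zero hd, eval_zero, eval_C] at h1
    rw [leadingCoeff, hd] at hneg
    linarith
  · have ht := (tendsto_atBot_of_leadingCoeff_nonpos f (natDegree_pos_iff_degree_pos.mp hd) hneg.le).comp
      tendsto_natCast_atTop_atTop
    obtain ⟨N, hN⟩ := Filter.eventually_atTop.mp (ht.eventually_lt_atBot 0)
    have h1 := hM (max M N) (le_max_left _ _)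
    have h2 := hN (max M N) (le_max_right _ _)
    simp only [Function.comp_apply] at h2
    rw [eval_zero] at h1
    linarith

theorem coeff_nonneg_of_evLE {f : ℝ[X]} (h : EvLE 0 f) {n : ℕ} (hd : f.natDegree ≤ n) :
    0 ≤ f.coeff n := by
  rcases eq_or_lt_of_le hd with e | e
  · exact e ▸ leadingCoeff_nonneg_of_evLE h
  · rw [coeff_eq_zero_of_natDegree_lt e]

theorem eventually_pos {f : ℝ[X]} {n : ℕ} (hd : f.natDegree ≤ n) (h : 0 < f.coeff n) :
    ∃ M : ℕ, ∀ m : ℕ, M ≤ m → 0 < f.eval (m : ℝ) := by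
  have e : f.natDegree = n := le_antisymm hd (le_natDegree_of_ne_zero h.ne')
  rcases Nat.eq_zero_or_pos n with h0 | h0
  · refine ⟨0, fun m _ => ?_⟩
    rw [eq_C_of_natDegree_eq_zero (e.trans h0), eval_C, ← h0]
    exact h
  · have hl : 0 ≤ f.leadingCoeff := by rw [leadingCoeff, e]; exact h.le
    have ht := (tendsto_atTop_of_leadingCoeff_nonneg f
      (natDegree_pos_iff_degree_pos.mp (e.symm ▸ h0)) hl).comp tendsto_natCast_atTop_atTop
    exact Filter.eventually_atTop.mp (ht.eventually_gt_atTop 0)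

theorem evLE_antisymm {f g : ℝ[X]} (h₁ : EvLE f g) (h₂ : EvLE g f) : f = g := by
  have a := leadingCoeff_nonneg_of_evLE h₁.sub_nonneg
  have b := leadingCoeff_nonneg_of_evLE h₂.sub_nonneg
  rw [← neg_sub g f, leadingCoeff_neg] at b
  exact (sub_eq_zero.mp (leadingCoeff_eq_zero.mp (le_antisymm (by linarith) a))).symm

theorem evLE_rpoly {P : ℚ[X]} (h : NN P) : EvLE 0 (rpoly P) := by
  obtain ⟨M, hM⟩ := polyLE_iff.mpr (by rwa [sub_zero] : NN (P - 0))
  refine ⟨M, fun m hm => ?_⟩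
  have := hM m hm
  rw [eval_zero] at this
  rw [eval_zero, eval_natCast_map]
  simpa using this

theorem rpoly_eval (P : ℚ[X]) (m : ℕ) : (rpoly P).eval (m : ℝ) = ((P.eval (m : ℚ) : ℚ) : ℝ) :=
  eval_natCast_map _ P m

theorem coeff_rpoly (P : ℚ[X]) (n : ℕ) : (rpoly P).coeff n = (P.coeff n : ℝ) :=
  coeff_map _ n

theorem rpoly_sub (P Q : ℚ[X]) : rpoly (P - Q) = rpoly P - rpoly Q := Polynomial.map_sub _

theorem rpoly_add (P Q : ℚ[X]) : rpoly (P + Q) = rpoly P + rpoly Q := Polynomial.map_add _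

end Real

section Str

variable {C : Type*} [Category C] {E : C} (𝓔 : ParSh.Str E)

/-- The steps of the extended weights. -/
def step (j : Fin (𝓔.l + 1)) : ℝ := 𝓔.wtX j.succ - 𝓔.wtX j.castSucc

theorem wtX_strictMono : StrictMono 𝓔.wtX := by
  refine Fin.strictMono_iff_lt_succ.mpr fun j => ?_
  rw [ParSh.Str.wtX_castSucc]
  induction j using Fin.lastCases with
  | last => rw [Fin.succ_last, ParSh.Str.wtX_last]; exact 𝓔.wt_lt_one
  | cast i => rw [Fin.succ_castSucc, ParSh.Str.wtX_castSucc]; exact 𝓔.wt_strictMono i.castSucc_lt_succ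

theorem step_pos (j : Fin (𝓔.l + 1)) : 0 < step 𝓔 j :=
  sub_pos.mpr (wtX_strictMono 𝓔 j.castSucc_lt_succ)

theorem sum_succ_sub_castSucc {M : Type*} [AddCommGroup M] {n : ℕ} (f : Fin (n + 2) → M) :
    ∑ j : Fin (n + 1), (f j.succ - f j.castSucc) = f (Fin.last (n + 1)) - f 0 := by
  have h1 := Fin.sum_univ_succ f
  have h2 := Fin.sum_univ_castSucc f
  rw [Finset.sum_sub_distrib, sub_eq_sub_iff_add_eq_add, add_comm, ← h1, h2, add_comm]

theorem sum_step : ∑ j, step 𝓔 j = 1 - 𝓔.wt 0 := by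
  rw [show (∑ j, step 𝓔 j) = _ from sum_succ_sub_castSucc 𝓔.wtX, ParSh.Str.wtX_last,
    ← Fin.castSucc_zero, ParSh.Str.wtX_castSucc]

theorem wt_zero_le_one : 𝓔.wt 0 ≤ 1 :=
  ((𝓔.wt_strictMono.monotone (Fin.zero_le _)).trans 𝓔.wt_lt_one.le)

theorem pieceX_zero : 𝓔.pieceX 0 = ⊤ := by
  rw [← Fin.castSucc_zero, ParSh.Str.pieceX_castSucc, 𝓔.piece_zero]

theorem pieceX_anti : Antitone 𝓔.pieceX := by
  refine Fin.antitone_iff_succ_le.mpr fun j => ?_
  rw [ParSh.Str.pieceX_castSucc]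
  induction j using Fin.lastCases with
  | last => rw [ParSh.Str.pieceX_succ_last]; exact 𝓔.bot_le _
  | cast i => rw [ParSh.Str.pieceX_succ_castSucc]; exact 𝓔.piece_anti i.castSucc_lt_succ.le

/-- Abel summation for the parabolic polynomial. -/
theorem parPoly_eq (P : ℚ[X]) (PX : Fin (𝓔.l + 2) → ℚ[X]) (h0 : PX 0 = P) :
    parPoly 𝓔 PX = rpoly P - ∑ j, Polynomial.C (step 𝓔 j) * rpoly (P - PX j.succ) := by
  let F : Fin (𝓔.l + 2) → ℝ[X] := fun j => Polynomial.C (𝓔.wtX j) * (rpoly P - rpoly (PX j))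
  have key : ∀ j : Fin (𝓔.l + 1),
      Polynomial.C (step 𝓔 j) * rpoly (P - PX j.succ) =
        (F j.succ - F j.castSucc) - Polynomial.C (𝓔.wt j) * (rpoly (PX j.castSucc) - rpoly (PX j.succ)) := by
    intro j
    simp only [F, step, rpoly_sub, Polynomial.C_sub, ParSh.Str.wtX_castSucc]
    ring
  rw [Finset.sum_congr rfl fun j _ => key j, Finset.sum_sub_distrib, sum_succ_sub_castSucc F]
  simp only [F, ParSh.Str.wtX_last, map_one, one_mul, h0, sub_self, mul_zero, sub_zero, parPoly]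
  ring

/-- The parabolic polynomial as a positive combination of the pieces. -/
theorem parPoly_eq_add (P : ℚ[X]) (PX : Fin (𝓔.l + 2) → ℚ[X]) (h0 : PX 0 = P) :
    parPoly 𝓔 PX = Polynomial.C (𝓔.wt 0) * rpoly P +
      ∑ j, Polynomial.C (step 𝓔 j) * rpoly (PX j.succ) := by
  rw [parPoly_eq 𝓔 P PX h0]
  simp only [rpoly_sub, mul_sub, Finset.sum_sub_distrib, ← Finset.sum_mul, ← map_sum, sum_step,
    Polynomial.C_sub, map_one]
  ring

end Str

end Groth.HilbStab.Par
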