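import Groth.Agent.HilbStab.Par.Pieces
import Groth.Agent.HilbStab.KerCoker

/-!
# Monotonicity of parabolic polynomials; saturation; the first modified polynomial
-/

set_option autoImplicit false

universe u

open CategoryTheory CategoryTheory.Limits AlgebraicGeometry Polynomial
open W4swparbununimod

namespace Groth.HilbStab.Par

variable (k : Type u) [Field k] {X : Scheme.{u}} [X.Over (Spec (CommRingCat.of k))]
  [IsProper (X ↘ Spec (CommRingCat.of k))] [IsLocallyNoetherian X] {L : X.Modules}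
  (hL : CohB1.IsAmple L) {E W : X.Modules}

include hL in
theorem nn_of_mono {A B : X.Modules} (f : A ⟶ B) [Mono f] (hA : Coh.IsCoh A) (hB : Coh.IsCoh B)
    {PA PB : ℚ[X]} (hPA : ShStab.IsHilbPoly k X L A PA) (hPB : ShStab.IsHilbPoly k X L B PB) :
    NN (PB - PA) ∧ (PB - PA = 0 → IsIso f) := by
  haveI := hA.1
  have hC := QCohMod.isCoh_cokernel f hB
  obtain ⟨pC, hpC⟩ := exists_isHilbPoly k X hL hC
  have e := isHilbPoly_cokernel_add k hL hA f hB hPA hPB hpC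
  exact ⟨by rw [e, add_sub_cancel_left]; exact nn_hilbPoly k hL hC hpC,
    fun h0 => isIso_of_mono_of_eq k hL hA f hB hPA (sub_eq_zero.mp h0 ▸ hPB)⟩

theorem evLE_of_nn {P Q : ℚ[X]} (h : NN (Q - P)) : EvLE (rpoly P) (rpoly Q) :=
  evLE_of_sub (rpoly_sub Q P ▸ evLE_rpoly h)

omit k [Field k] [X.Over (Spec (CommRingCat.of k))] [IsProper (X ↘ Spec (CommRingCat.of k))]
  [IsLocallyNoetherian X] in
theorem exists_mono_pieces (𝓔 : ParSh.Str E) {W' : X.Modules} (ι : W ⟶ E) (ι' : W' ⟶ E)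
    (φ : W ⟶ W') [Mono φ] (hφ : φ ≫ ι' = ι) (j : Fin (𝓔.l + 2)) :
    ∃ f : (((𝓔.induced ι).pieceX j : Subobject W) : X.Modules) ⟶
      (((𝓔.induced ι').pieceX j : Subobject W') : X.Modules), Mono f := by
  have h1 : ((𝓔.induced ι').pieceX j).Factors (((𝓔.induced ι).pieceX j).arrow ≫ φ) := by
    have h := (Limits.pullback_factors_iff ι' (𝓔.pieceX j) (((𝓔.induced ι).pieceX j).arrow ≫ φ)).mpr (by
      rw [Category.assoc, hφ]
      exact (Limits.pullback_factors_iff ι (𝓔.pieceX j) _).mp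
        (induced_pieceX 𝓔 ι j ▸ Subobject.factors_self _))
    rwa [← induced_pieceX 𝓔 ι' j] at h
  exact ⟨_, mono_of_mono_fac (Subobject.factorThru_arrow _ _ h1)⟩

include hL in
/-- Parabolic polynomials of submodules grow with the submodule. -/
theorem parPoly_mono (𝓔 : ParSh.Str E) (hE : Coh.IsCoh E)
    (hcoh : ∀ j, Coh.IsCoh ((𝓔.pieceX j : Subobject E) : X.Modules))
    {W' : X.Modules} (ι : W ⟶ E) (ι' : W' ⟶ E) (φ : W ⟶ W') [Mono φ] (hφ : φ ≫ ι' = ι)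
    (hW : Coh.IsCoh W) (hW' : Coh.IsCoh W')
    {Q Q' : ℚ[X]} (hQ : ShStab.IsHilbPoly k X L W Q) (hQ' : ShStab.IsHilbPoly k X L W' Q')
    {QX QX' : Fin (𝓔.l + 2) → ℚ[X]}
    (hQX : ∀ j, ShStab.IsHilbPoly k X L (((𝓔.induced ι).pieceX j : Subobject W) : X.Modules) (QX j))
    (hQX' : ∀ j, ShStab.IsHilbPoly k X L (((𝓔.induced ι').pieceX j : Subobject W') : X.Modules) (QX' j)) :
    EvLE (parPoly (𝓔.induced ι) QX) (parPoly (𝓔.induced ι') QX') ∧
      (parPoly (𝓔.induced ι) QX = parPoly (𝓔.induced ι') QX' → 0 < 𝓔.wt 0 → IsIso φ) := by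
  have h0 : ∀ j, NN (QX' j - QX j) := fun j => by
    obtain ⟨f, hf⟩ := exists_mono_pieces 𝓔 ι ι' φ hφ j
    exact (nn_of_mono k hL f (isCoh_induced_pieceX 𝓔 ι hE hW hcoh j)
      (isCoh_induced_pieceX 𝓔 ι' hE hW' hcoh j) (hQX j) (hQX' j)).1
  have hn := nn_of_mono k hL φ hW hW' hQ hQ'
  have e : parPoly (𝓔.induced ι') QX' - parPoly (𝓔.induced ι) QX =
      Polynomial.C (𝓔.wt 0) * rpoly (Q' - Q) +
        ∑ j : Fin (𝓔.l + 1), Polynomial.C (step 𝓔 j) * rpoly (QX' j.succ - QX j.succ) := by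
    rw [parPoly_eq_add (𝓔.induced ι) Q QX (isHilbPoly_piece_zero k hL (𝓔.induced ι) hQ hQX),
      parPoly_eq_add (𝓔.induced ι') Q' QX' (isHilbPoly_piece_zero k hL (𝓔.induced ι') hQ' hQX')]
    simp only [rpoly_sub, mul_sub, Finset.sum_sub_distrib]
    exact add_sub_add_comm _ _ _ _
  have hs : EvLE 0 (∑ j : Fin (𝓔.l + 1), Polynomial.C (step 𝓔 j) * rpoly (QX' j.succ - QX j.succ)) := by
    have := EvLE.sum (Finset.univ) (f := fun _ : Fin (𝓔.l + 1) => (0 : ℝ[X]))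
      (fun j _ => mul_zero (Polynomial.C (step 𝓔 j)) ▸ (evLE_rpoly (h0 j.succ)).C_mul (step_pos 𝓔 j).le)
    rwa [Finset.sum_const_zero] at this
  have hf : EvLE 0 (Polynomial.C (𝓔.wt 0) * rpoly (Q' - Q)) :=
    mul_zero (Polynomial.C (𝓔.wt 0)) ▸ (evLE_rpoly hn.1).C_mul 𝓔.wt_nonneg
  refine ⟨evLE_of_sub (e ▸ ?_), fun heq hw => hn.2 ?_⟩
  · simpa using hf.add hs
  · rw [heq, sub_self] at e
    have h2 : EvLE (Polynomial.C (𝓔.wt 0) * rpoly (Q' - Q)) 0 := by
      refine evLE_of_sub ?_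
      rw [eq_neg_of_add_eq_zero_left e.symm]
      simpa using hs
    have h3 := evLE_antisymm h2 hf
    rw [mul_eq_zero, C_eq_zero] at h3
    exact (Polynomial.map_eq_zero _).mp (h3.resolve_left hw.ne')

include hL in
/-- Saturation of a submodule of a pure module. -/
theorem exists_saturation_sub [CompactSpace X] {d : ℕ} (hE : Coh.IsCoh E)
    (hp : ShStab.IsPure X E d) (ι : W ⟶ E) [Mono ι] (hW : Coh.IsCoh W) {Q : ℚ[X]}
    (hQ : ShStab.IsHilbPoly k X L W Q) :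
    ∃ (W' : X.Modules) (ι' : W' ⟶ E) (φ : W ⟶ W') (Q' : ℚ[X]), Mono ι' ∧ Mono φ ∧ φ ≫ ι' = ι ∧
      Coh.IsCoh W' ∧ ShStab.IsPure X (cokernel ι') d ∧ ShStab.IsHilbPoly k X L W' Q' ∧
      StabCat.alpha d Q' = StabCat.alpha d Q := by
  haveI := wellFoundedGT_cohSub (E := E) hE
  haveI := hE.1
  let S := subLattice k hL hE hp
  let C₀ := toCoh hE ι hW
  obtain ⟨C, ⟨hle, hμ⟩, hmax⟩ := (wellFounded_gt (α := cohSub E hE)).has_min
    {D | C₀ ≤ D ∧ S.μ C₀ D = 0} ⟨C₀, le_rfl, by simp [PolyLattice.μ, S.Q_self, StabCat.alpha]⟩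
  have hpure : S.Pure C (cTop hE) := fun D hD _ => by
    refine le_antisymm (S.natDegree_le hD.le) (not_lt.mp fun hd => hmax D ⟨hle.trans hD.le, ?_⟩ hD)
    rw [S.μ_add C₀ C D, hμ, zero_add, PolyLattice.μ, StabCat.alpha,
      Polynomial.coeff_eq_zero_of_natDegree_lt hd, mul_zero]
  have hle' : Subobject.mk ι ≤ C.1 := hle
  haveI : IsIso (cTop hE).1.arrow := inferInstanceAs (IsIso ((⊤ : Subobject E).arrow))
  let e : fac (show C.1 ≤ (cTop hE).1 from le_cTop hE C) ≅ cokernel C.1.arrow :=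
    cokernel.mapIso _ _ (Iso.refl _) (asIso (cTop hE).1.arrow)
      (by simp only [asIso_hom, Subobject.ofLE_arrow, Iso.refl_hom, Category.id_comp])
  refine ⟨_, C.1.arrow, Subobject.ofMkLE ι C.1 hle', subPoly k hL C, inferInstance,
    mono_of_mono_fac (Subobject.ofMkLE_arrow hle'), Subobject.ofMkLE_arrow hle', C.2, ?_,
    isHilbPoly_subPoly k hL C, ?_⟩
  · intro G κ hκ hG hG0
    exact (pure_iff k hL hE hp (le_cTop hE C)).mp hpure G (κ ≫ e.inv) (mono_comp _ _) hG hG0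
  · have h1 := isHilbPoly_unique k hQ (isHilbPoly_toCoh k hL hE ι hW)
    have h2 : StabCat.alpha d (subPoly k hL C - subPoly k hL C₀) = 0 := hμ
    rw [alpha_sub] at h2
    rw [h1]
    linarith

include hL in
/-- The semistability inequality holds for all submodules once it holds for saturated ones. -/
theorem evLE_all [CompactSpace X] {d : ℕ} (hE : Coh.IsCoh E) (hp : ShStab.IsPure X E d)
    (𝓔 : ParSh.Str E) (hcoh : ∀ j, Coh.IsCoh ((𝓔.pieceX j : Subobject E) : X.Modules))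
    {P : ℚ[X]} (hP : ShStab.IsHilbPoly k X L E P) {PX : Fin (𝓔.l + 2) → ℚ[X]}
    (hss : ∀ (W : X.Modules) (ι : W ⟶ E), Mono ι → Coh.IsCoh W → ¬ IsZero W →
        ShStab.IsPure X (cokernel ι) d →
        ∀ (Q : ℚ[X]) (QX : Fin (𝓔.l + 2) → ℚ[X]), ShStab.IsHilbPoly k X L W Q →
          (∀ j, ShStab.IsHilbPoly k X L (((𝓔.induced ι).pieceX j : Subobject W) : X.Modules) (QX j)) →
          ∃ M : ℕ, ∀ m : ℕ, M ≤ m →
            (parPoly (𝓔.induced ι) QX).eval (m : ℝ) * (StabCat.alpha d P : ℝ) ≤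
              (parPoly 𝓔 PX).eval (m : ℝ) * (StabCat.alpha d Q : ℝ))
    (ι : W ⟶ E) [Mono ι] (hW : Coh.IsCoh W) {Q : ℚ[X]} (hQ : ShStab.IsHilbPoly k X L W Q)
    {QX : Fin (𝓔.l + 2) → ℚ[X]}
    (hQX : ∀ j, ShStab.IsHilbPoly k X L (((𝓔.induced ι).pieceX j : Subobject W) : X.Modules) (QX j)) :
    EvLE (parPoly (𝓔.induced ι) QX * Polynomial.C (StabCat.alpha d P : ℝ))
      (parPoly 𝓔 PX * Polynomial.C (StabCat.alpha d Q : ℝ)) := by
  have hαP : 0 ≤ StabCat.alpha d P := alpha_nonneg_of_natDegree_le (nn_hilbPoly k hL hE hP)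
    (natDegree_le_of_support_subset k hL (dim_support_le_of_isPure hE hp) Set.Subset.rfl hE hP)
  by_cases h0 : IsZero W
  · have e1 := eq_zero_of_isZero k h0 hQ
    have e2 : ∀ j, QX j = 0 := fun j =>
      eq_zero_of_isZero k (h0.of_mono ((𝓔.induced ι).pieceX j).arrow) (hQX j)
    have e3 : parPoly (𝓔.induced ι) QX = 0 := by
      rw [parPoly_eq_add (𝓔.induced ι) Q QX (isHilbPoly_piece_zero k hL (𝓔.induced ι) hQ hQX), e1]
      simp [e2, rpoly]
    rw [e3, zero_mul, e1]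
    simp [StabCat.alpha, EvLE.refl]
  obtain ⟨W', ι', φ, Q', hι', hφ, hcomm, hW', hpure, hQ', hα⟩ :=
    exists_saturation_sub k hL hE hp ι hW hQ
  choose QX' hQX' using fun j =>
    exists_isHilbPoly k X hL (isCoh_induced_pieceX 𝓔 ι' hE hW' hcoh j)
  have h1 := (parPoly_mono k hL 𝓔 hE hcoh ι ι' φ hcomm hW hW' hQ hQ' hQX hQX').1.mul_C
    (a := (StabCat.alpha d P : ℝ)) (by exact_mod_cast hαP)
  obtain ⟨M, hM⟩ := hss W' ι' hι' hW' (fun hz => h0 (hz.of_mono φ)) hpure Q' QX' hQ' hQX'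
  refine h1.trans ⟨M, fun m hm => ?_⟩
  rw [eval_mul, eval_mul, eval_C, eval_C, ← hα]
  exact hM m hm

omit k [Field k] [X.Over (Spec (CommRingCat.of k))] [IsProper (X ↘ Spec (CommRingCat.of k))]
  [IsLocallyNoetherian X] in
theorem exists_mono_quot (𝓔 : ParSh.Str E) (ι : W ⟶ E) (j : Fin (𝓔.l + 2)) :
    ∃ m : cokernel ((𝓔.induced ι).pieceX j).arrow ⟶ cokernel (𝓔.pieceX j).arrow, Mono m := by
  have hfac : (𝓔.pieceX j).Factors (((𝓔.induced ι).pieceX j).arrow ≫ ι) :=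
    (Limits.pullback_factors_iff ι (𝓔.pieceX j) _).mp
      (induced_pieceX 𝓔 ι j ▸ Subobject.factors_self _)
  let m : cokernel ((𝓔.induced ι).pieceX j).arrow ⟶ cokernel (𝓔.pieceX j).arrow :=
    cokernel.map _ _ ((𝓔.pieceX j).factorThru _ hfac) ι (by simp)
  refine ⟨m, Preadditive.mono_of_cancel_zero m fun {T} ψ hψ => ?_⟩
  let π := cokernel.π ((𝓔.induced ι).pieceX j).arrow
  have h1 : (pullback.snd ψ π ≫ ι) ≫ cokernel.π (𝓔.pieceX j).arrow = 0 := by
    have h := cokernel.π_desc ((𝓔.induced ι).pieceX j).arrow (ι ≫ cokernel.π (𝓔.pieceX j).arrow)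
      (by rw [← Category.assoc, ← Subobject.factorThru_arrow _ _ hfac, Category.assoc,
        cokernel.condition, Limits.comp_zero])
    rw [Category.assoc, ← h]
    change pullback.snd ψ π ≫ π ≫ m = 0
    rw [← Category.assoc, ← pullback.condition, Category.assoc, hψ, Limits.comp_zero]
  let S : ShortComplex X.Modules :=
    ShortComplex.mk (𝓔.pieceX j).arrow (cokernel.π _) (cokernel.condition _)
  have hS : S.Exact := ShortComplex.exact_of_g_is_cokernel _ (cokernelIsCokernel _)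
  haveI : Mono S.f := inferInstanceAs (Mono (𝓔.pieceX j).arrow)
  obtain ⟨l, hl⟩ := KernelFork.IsLimit.lift' hS.fIsKernel (pullback.snd ψ π ≫ ι) h1
  have h2 : ((𝓔.induced ι).pieceX j).Factors (pullback.snd ψ π) := by
    have h3 := (Limits.pullback_factors_iff ι (𝓔.pieceX j) (pullback.snd ψ π)).mpr
      ((Subobject.factors_iff _ _).mpr ⟨l, hl⟩)
    rwa [← induced_pieceX 𝓔 ι j] at h3
  rw [← cancel_epi (pullback.fst ψ π), Limits.comp_zero, pullback.condition,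
    ← Subobject.factorThru_arrow _ _ h2, Category.assoc, cokernel.condition, Limits.comp_zero]

include hL in
/-- The first modified polynomial is at most the parabolic one when the quotients are semistable. -/
theorem parPolyOne_le (𝓔 : ParSh.Str E) (hE : Coh.IsCoh E)
    (hcoh : ∀ j, Coh.IsCoh ((𝓔.pieceX j : Subobject E) : X.Modules)) {d : ℕ}
    {H : Fin (𝓔.l + 2) → ℚ[X]} (hH : ∀ j, ShStab.IsHilbPoly k X L (cokernel (𝓔.pieceX j).arrow) (H j))
    (hHa : ∀ j : Fin (𝓔.l + 1), StabCat.alpha (d - 1) (H j.succ) ≠ 0)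
    (hq : ∀ j : Fin (𝓔.l + 1), ShStab.IsSemistable k X L (cokernel (𝓔.pieceX j.succ).arrow) (d - 1))
    (ι : W ⟶ E) (hW : Coh.IsCoh W) {Q : ℚ[X]} (hQ : ShStab.IsHilbPoly k X L W Q)
    {QH : Fin (𝓔.l + 2) → ℚ[X]}
    (hQH : ∀ j, ShStab.IsHilbPoly k X L (cokernel ((𝓔.induced ι).pieceX j).arrow) (QH j))
    {QX : Fin (𝓔.l + 2) → ℚ[X]}
    (hQX : ∀ j, ShStab.IsHilbPoly k X L (((𝓔.induced ι).pieceX j : Subobject W) : X.Modules) (QX j)) :
    EvLE (parPolyOne 𝓔 d Q QH H) (parPoly (𝓔.induced ι) QX) := by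
  rw [parPoly_induced_eq k hL 𝓔 ι hQ hQX, parPolyOne]
  refine evLE_of_sub ?_
  rw [sub_sub_sub_cancel_left, ← Finset.sum_sub_distrib]
  have hkey : ∀ j : Fin (𝓔.l + 1), EvLE 0
      (Polynomial.C ((𝓔.wtX j.succ - 𝓔.wtX j.castSucc) *
        ((StabCat.alpha (d - 1) (QH j.succ) / StabCat.alpha (d - 1) (H j.succ) : ℚ) : ℝ)) *
          rpoly (H j.succ) - Polynomial.C (step 𝓔 j) * rpoly (Q - QX j.succ)) := by
    intro j
    have hA := isCoh_induced_pieceX 𝓔 ι hE hW hcoh j.succ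
    haveI := hA.1
    rw [sub_eq_quot k hL hW hA hQ (hQX j.succ) (hQH j.succ)]
    obtain ⟨m, hm⟩ := exists_mono_quot 𝓔 ι j.succ
    have hC := QCohMod.isCoh_cokernel ((𝓔.induced ι).pieceX j.succ).arrow hW
    have hpos : 0 < StabCat.alpha (d - 1) (H j.succ) :=
      lt_of_le_of_ne' (alpha_pos_of_isPure k hL (hq j).2.2.1 (𝟙 _) (hq j).1 (hq j).2.1 (hH j.succ)).le
        (hHa j)
    have h1 := nn_cr_sub k hL (hq j) m hC (hQH j.succ) (hH j.succ)
    have h2 : NN ((StabCat.alpha (d - 1) (QH j.succ) / StabCat.alpha (d - 1) (H j.succ)) • H j.succ -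
        QH j.succ) := by
      have e : (StabCat.alpha (d - 1) (H j.succ))⁻¹ • cr (d - 1) (QH j.succ) (H j.succ) =
          (StabCat.alpha (d - 1) (QH j.succ) / StabCat.alpha (d - 1) (H j.succ)) • H j.succ -
            QH j.succ := by
        rw [cr, smul_sub, smul_smul, smul_smul, inv_mul_cancel₀ hpos.ne', one_smul, inv_mul_eq_div]
      exact e ▸ h1.smul (inv_nonneg.mpr hpos.le)
    have h3 := (evLE_rpoly h2).C_mul (step_pos 𝓔 j).le
    rw [mul_zero] at h3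
    convert h3 using 1
    simp only [rpoly_sub, rpoly, Polynomial.smul_eq_C_mul, Polynomial.map_mul, Polynomial.map_C,
      mul_sub, ← mul_assoc, ← Polynomial.C_mul]
    rfl
  have := EvLE.sum Finset.univ (f := fun _ : Fin (𝓔.l + 1) => (0 : ℝ[X])) (fun j _ => hkey j)
  rwa [Finset.sum_const_zero] at this

end Groth.HilbStab.Par
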