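import Groth.Agent.HilbStab.Par.Pieces
import Mathlib.Analysis.SpecificLimits.Basic

/-!
# Top coefficients as limits
-/

set_option autoImplicit false

open Polynomial Filter Topology
open W4swparbununimod

namespace Groth.HilbStab.Par

theorem tendsto_pow_div {i d : ℕ} (h : i < d) :
    Tendsto (fun n : ℕ => (n : ℝ) ^ i / (n : ℝ) ^ d) atTop (𝓝 0) :=
  (tendsto_pow_div_pow_atTop_zero h).comp tendsto_natCast_atTop_atTop

theorem tendsto_eval_div (f : ℝ[X]) {d : ℕ} (h : f.natDegree ≤ d) :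
    Tendsto (fun n : ℕ => f.eval (n : ℝ) / (n : ℝ) ^ d) atTop (𝓝 (f.coeff d)) := by
  have hf : ∀ n : ℕ, f.eval (n : ℝ) / (n : ℝ) ^ d =
      ∑ i ∈ Finset.range (d + 1), f.coeff i * ((n : ℝ) ^ i / (n : ℝ) ^ d) := by
    intro n
    rw [eval_eq_sum_range' (Nat.lt_succ_of_le h), Finset.sum_div]
    exact Finset.sum_congr rfl fun i _ => mul_div_assoc _ _ _
  simp only [hf]
  rw [show f.coeff d = ∑ i ∈ Finset.range (d + 1), if i = d then f.coeff d else 0 by simp]
  refine tendsto_finsetSum _ fun i hi => ?_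
  rcases eq_or_lt_of_le (Nat.le_of_lt_succ (Finset.mem_range.mp hi)) with rfl | e
  · simp only [if_true]
    refine Tendsto.congr' ?_ tendsto_const_nhds
    filter_upwards [eventually_gt_atTop 0] with n hn
    rw [div_self (pow_ne_zero _ (Nat.cast_pos.mpr hn).ne'), mul_one]
  · rw [if_neg e.ne]
    simpa using (tendsto_pow_div e).const_mul (f.coeff i)

theorem tendsto_ratio {A B : ℚ[X]} {e : ℕ} (hA : A.natDegree ≤ e) (hB : B.natDegree ≤ e)
    (h : StabCat.alpha e B ≠ 0) :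
    Tendsto (fun n : ℕ => ((A.eval (n : ℚ) / B.eval (n : ℚ) : ℚ) : ℝ)) atTop
      (𝓝 ((StabCat.alpha e A / StabCat.alpha e B : ℚ) : ℝ)) := by
  obtain ⟨hf, hc⟩ := mul_ne_zero_iff.mp h
  have h1 := (tendsto_eval_div (rpoly A) (natDegree_map_le.trans hA)).div
    (tendsto_eval_div (rpoly B) (natDegree_map_le.trans hB))
    (by rw [coeff_rpoly]; exact_mod_cast hc)
  rw [show ((StabCat.alpha e A / StabCat.alpha e B : ℚ) : ℝ) = (rpoly A).coeff e / (rpoly B).coeff e by
    rw [coeff_rpoly, coeff_rpoly, StabCat.alpha, StabCat.alpha, mul_div_mul_left _ _ hf, Rat.cast_div]]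
  refine h1.congr' ?_
  filter_upwards [eventually_gt_atTop 0] with n hn
  rw [Pi.div_apply, rpoly_eval, rpoly_eval, Rat.cast_div]
  exact div_div_div_cancel_right₀ (pow_ne_zero _ (Nat.cast_pos.mpr hn).ne') _ _

end Groth.HilbStab.Par
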