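import Groth.Agent.HilbStab.Par.Compare

/-!
# Kernels and images of parabolic homomorphisms
-/

set_option autoImplicit false

universe u

open CategoryTheory CategoryTheory.Limits AlgebraicGeometry Polynomial
open W4swparbununimod

namespace Groth.HilbStab.Par

variable (k : Type u) [Field k] {X : Scheme.{u}} [X.Over (Spec (CommRingCat.of k))]
  [IsProper (X ↘ Spec (CommRingCat.of k))] [IsLocallyNoetherian X] {L : X.Modules}
  (hL : CohB1.IsAmple L) {E K V : X.Modules}

omit k [Field k] [X.Over (Spec (CommRingCat.of k))] [IsProper (X ↘ Spec (CommRingCat.of k))]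
  [IsLocallyNoetherian X] in
theorem coinduced_pieceX (𝓔 : ParSh.Str E) (q : E ⟶ V) [Epi q] (j : Fin (𝓔.l + 2)) :
    (𝓔.coinduced q).pieceX j = imageSubobject ((𝓔.pieceX j).arrow ≫ q) := by
  induction j using Fin.lastCases with
  | last => exact (ParSh.Str.pieceX_last (𝓔.coinduced q)).trans (by rw [ParSh.Str.pieceX_last]; rfl)
  | cast j =>
    exact (ParSh.Str.pieceX_castSucc (𝓔.coinduced q) j).trans (by rw [ParSh.Str.pieceX_castSucc]; rfl)

omit k [Field k] [X.Over (Spec (CommRingCat.of k))] [IsProper (X ↘ Spec (CommRingCat.of k))] in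
theorem isCoh_image (A : Subobject E) (q : E ⟶ V) (hA : Coh.IsCoh (A : X.Modules))
    (hV : Coh.IsCoh V) : Coh.IsCoh ((imageSubobject (A.arrow ≫ q) : Subobject V) : X.Modules) := by
  haveI := hA.1
  haveI := hV.1
  haveI := QCohMod.isQCoh_cokernel (A.arrow ≫ q)
  exact QCohMod.isCoh_of_iso (imageSubobjectIso _).symm
    (QCohMod.isCoh_of_iso (Abelian.imageIsoImage (A.arrow ≫ q))
      (QCohMod.isCoh_kernel (cokernel.π (A.arrow ≫ q)) hV))

include hL in
/-- The image of a submodule in a quotient: additivity. -/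
theorem image_add (j : K ⟶ E) [Mono j] (q : E ⟶ V) [Epi q] (w : j ≫ q = 0)
    (hex : (ShortComplex.mk j q w).Exact) (hV : Coh.IsCoh V) (A : Subobject E)
    (hA : Coh.IsCoh (A : X.Modules)) {PA PK PI : ℚ[X]}
    (hPA : ShStab.IsHilbPoly k X L (A : X.Modules) PA)
    (hPK : ShStab.IsHilbPoly k X L (((Subobject.pullback j).obj A : Subobject K) : X.Modules) PK)
    (hPI : ShStab.IsHilbPoly k X L ((imageSubobject (A.arrow ≫ q) : Subobject V) : X.Modules) PI) :
    PA = PK + PI := by
  let g := factorThruImageSubobject (A.arrow ≫ q)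
  have hg : g ≫ (imageSubobject (A.arrow ≫ q)).arrow = A.arrow ≫ q := imageSubobject_arrow_comp _
  haveI : Mono (ShortComplex.mk j q w).f := inferInstanceAs (Mono j)
  obtain ⟨l, hl⟩ := KernelFork.IsLimit.lift' hex.fIsKernel (kernel.ι g ≫ A.arrow) (by
    change (kernel.ι g ≫ A.arrow) ≫ q = 0
    exact (Category.assoc _ _ _).trans ((congrArg (kernel.ι g ≫ ·) hg).symm.trans
      ((kernel.condition_assoc g _).trans Limits.zero_comp)))
  replace hl : l ≫ j = kernel.ι g ≫ A.arrow := hl
  have hF : ((Subobject.pullback j).obj A).Factors l := by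
    rw [Limits.pullback_factors_iff, hl]
    exact Subobject.factors_comp_arrow _
  have hw : Subobject.pullbackπ j A ≫ g = 0 := by
    rw [← cancel_mono (imageSubobject (A.arrow ≫ q)).arrow, Category.assoc, hg, Limits.zero_comp,
      ← Category.assoc, (Subobject.isPullback j A).w, Category.assoc, w, Limits.comp_zero]
  haveI : Mono (Subobject.pullbackπ j A) := by
    haveI : Mono (Subobject.pullbackπ j A ≫ A.arrow) := by
      rw [(Subobject.isPullback j A).w]; exact mono_comp _ _
    exact mono_of_mono _ A.arrow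
  let e : ((((Subobject.pullback j).obj A : Subobject K)) : X.Modules) ≅ kernel g :=
    { hom := kernel.lift g (Subobject.pullbackπ j A) hw
      inv := ((Subobject.pullback j).obj A).factorThru l hF
      hom_inv_id := by
        rw [← cancel_mono ((Subobject.pullback j).obj A).arrow, Category.assoc,
          Subobject.factorThru_arrow, Category.id_comp, ← cancel_mono j, Category.assoc, hl,
          kernel.lift_ι_assoc, (Subobject.isPullback j A).w]
      inv_hom_id := by
        rw [← cancel_mono (kernel.ι g), Category.assoc, kernel.lift_ι, Category.id_comp,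
          ← cancel_mono A.arrow, Category.assoc, (Subobject.isPullback j A).w,
          Subobject.factorThru_arrow_assoc, hl] }
  haveI : Epi g := inferInstance
  exact isHilbPoly_kernel_add k hL hA g (isCoh_image A q hA hV) (isHilbPoly_iso k e hPK) hPA hPI

theorem evLE_le_sum {ι : Type*} (s : Finset ι) {f : ι → ℝ[X]} (h : ∀ i ∈ s, EvLE 0 (f i)) {i : ι}
    (hi : i ∈ s) : EvLE (f i) (∑ x ∈ s, f x) := by
  classical
  rw [← Finset.add_sum_erase s f hi]
  have := (EvLE.refl (f i)).add (EvLE.sum (s.erase i) (f := fun _ => (0 : ℝ[X]))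
    fun x hx => h x (Finset.mem_of_mem_erase hx))
  rwa [Finset.sum_const_zero, add_zero] at this

include hL in
/-- Two nested structures with the same polynomial have the same pieces. -/
theorem pieceX_eq_of_parPoly_eq {n : ℕ} (hV : Coh.IsCoh V) (w₀ : ℝ) (c : Fin (n + 1) → ℝ)
    (hw : 0 ≤ w₀) (hc : ∀ j, 0 < c j) (A B : Fin (n + 2) → Subobject V)
    (hA : ∀ j, Coh.IsCoh (A j : X.Modules)) (hB : ∀ j, Coh.IsCoh (B j : X.Modules))
    (hle : ∀ j, A j ≤ B j) {PA PB : Fin (n + 2) → ℚ[X]}
    (hPA : ∀ j, ShStab.IsHilbPoly k X L (A j : X.Modules) (PA j))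
    (hPB : ∀ j, ShStab.IsHilbPoly k X L (B j : X.Modules) (PB j)) (Q : ℚ[X]) :
    EvLE (Polynomial.C w₀ * rpoly Q + ∑ j : Fin (n + 1), Polynomial.C (c j) * rpoly (PA j.succ))
        (Polynomial.C w₀ * rpoly Q + ∑ j : Fin (n + 1), Polynomial.C (c j) * rpoly (PB j.succ)) ∧
    (Polynomial.C w₀ * rpoly Q + ∑ j : Fin (n + 1), Polynomial.C (c j) * rpoly (PA j.succ) =
        Polynomial.C w₀ * rpoly Q + ∑ j : Fin (n + 1), Polynomial.C (c j) * rpoly (PB j.succ) →
      ∀ j : Fin (n + 1), A j.succ = B j.succ) := by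
  have hnn := fun j : Fin (n + 1) =>
    nn_sub k hL hV (hA j.succ) (hB j.succ) (hle j.succ) (hPA j.succ) (hPB j.succ)
  have hterm : ∀ j : Fin (n + 1), EvLE (Polynomial.C (c j) * rpoly (PA j.succ))
      (Polynomial.C (c j) * rpoly (PB j.succ)) := fun j => (evLE_of_nn (hnn j).1).C_mul (hc j).le
  refine ⟨(EvLE.refl _).add (EvLE.sum _ fun j _ => hterm j), fun h j => (hnn j).2 ?_⟩
  replace h := add_left_cancel h
  have h1 := evLE_le_sum Finset.univ
    (f := fun j => Polynomial.C (c j) * rpoly (PB j.succ) - Polynomial.C (c j) * rpoly (PA j.succ))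
    (fun j _ => (hterm j).sub_nonneg) (Finset.mem_univ j)
  rw [Finset.sum_sub_distrib, h, sub_self] at h1
  have h2 := evLE_antisymm h1 (hterm j).sub_nonneg
  rw [← mul_sub, mul_eq_zero, C_eq_zero, ← rpoly_sub] at h2
  exact (Polynomial.map_eq_zero _).mp (h2.resolve_left (hc j).ne')

end Groth.HilbStab.Par
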