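import Groth.Agent.HilbStab.Par.Basic

/-!
# Hilbert polynomials of pieces and their quotients
-/

set_option autoImplicit false

universe u

open CategoryTheory CategoryTheory.Limits AlgebraicGeometry Polynomial
open W4swparbununimod

namespace Groth.HilbStab.Par

variable (k : Type u) [Field k] {X : Scheme.{u}} [X.Over (Spec (CommRingCat.of k))]
  [IsProper (X ↘ Spec (CommRingCat.of k))] [IsLocallyNoetherian X] {L : X.Modules}
  (hL : CohB1.IsAmple L) {E W : X.Modules}

omit k [Field k] [X.Over (Spec (CommRingCat.of k))] [IsProper (X ↘ Spec (CommRingCat.of k))] in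
theorem isCoh_pullback (A : Subobject E) (ι : W ⟶ E) (hE : Coh.IsCoh E) (hW : Coh.IsCoh W)
    (hA : Coh.IsCoh (A : X.Modules)) :
    Coh.IsCoh (((Subobject.pullback ι).obj A : Subobject W) : X.Modules) := by
  haveI := hE.1
  haveI := hA.1
  haveI := QCohMod.isQCoh_cokernel A.arrow
  let ψ := ι ≫ cokernel.π A.arrow
  refine QCohMod.isCoh_of_iso ?_ (QCohMod.isCoh_kernel ψ hW)
  have hF : ((Subobject.pullback ι).obj A).Factors (kernel.ι ψ) := by
    rw [Limits.pullback_factors_iff]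
    let S : ShortComplex X.Modules :=
      ShortComplex.mk A.arrow (cokernel.π A.arrow) (cokernel.condition _)
    have hS : S.Exact := ShortComplex.exact_of_g_is_cokernel _ (cokernelIsCokernel A.arrow)
    haveI : Mono S.f := inferInstanceAs (Mono A.arrow)
    obtain ⟨l, hl⟩ := KernelFork.IsLimit.lift' hS.fIsKernel (kernel.ι ψ ≫ ι) (by
      change (kernel.ι ψ ≫ ι) ≫ cokernel.π A.arrow = 0
      rw [Category.assoc]
      exact kernel.condition ψ)
    exact (Subobject.factors_iff _ _).mpr ⟨l, hl⟩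
  exact
    { hom := ((Subobject.pullback ι).obj A).factorThru (kernel.ι ψ) hF
      inv := kernel.lift ψ ((Subobject.pullback ι).obj A).arrow (by
        simp only [ψ]
        rw [← Category.assoc, ← (Subobject.isPullback ι A).w, Category.assoc, cokernel.condition,
          Limits.comp_zero])
      hom_inv_id := by rw [← cancel_mono (kernel.ι ψ)]; simp
      inv_hom_id := by rw [← cancel_mono ((Subobject.pullback ι).obj A).arrow]; simp }

omit k [Field k] [X.Over (Spec (CommRingCat.of k))] [IsProper (X ↘ Spec (CommRingCat.of k))] in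
theorem isCoh_induced_pieceX (𝓔 : ParSh.Str E) (ι : W ⟶ E) (hE : Coh.IsCoh E) (hW : Coh.IsCoh W)
    (hcoh : ∀ j, Coh.IsCoh ((𝓔.pieceX j : Subobject E) : X.Modules)) (j : Fin (𝓔.l + 2)) :
    Coh.IsCoh (((𝓔.induced ι).pieceX j : Subobject W) : X.Modules) := by
  induction j using Fin.lastCases with
  | last =>
    have h : Coh.IsCoh (𝓔.bot : X.Modules) := by simpa using hcoh (Fin.last _)
    exact (ParSh.Str.pieceX_last (𝓔.induced ι)).symm ▸ isCoh_pullback 𝓔.bot ι hE hW h
  | cast j =>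
    have h : Coh.IsCoh (𝓔.piece j : X.Modules) := by simpa using hcoh j.castSucc
    exact (ParSh.Str.pieceX_castSucc (𝓔.induced ι) j).symm ▸ isCoh_pullback (𝓔.piece j) ι hE hW h

omit k [Field k] [X.Over (Spec (CommRingCat.of k))] [IsProper (X ↘ Spec (CommRingCat.of k))]
  [IsLocallyNoetherian X] in
theorem induced_pieceX (𝓔 : ParSh.Str E) (ι : W ⟶ E) (j : Fin (𝓔.l + 2)) :
    (𝓔.induced ι).pieceX j = (Subobject.pullback ι).obj (𝓔.pieceX j) := by
  induction j using Fin.lastCases with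
  | last => exact (ParSh.Str.pieceX_last (𝓔.induced ι)).trans (by rw [ParSh.Str.pieceX_last]; rfl)
  | cast j =>
    exact (ParSh.Str.pieceX_castSucc (𝓔.induced ι) j).trans (by rw [ParSh.Str.pieceX_castSucc]; rfl)

include hL in
theorem isHilbPoly_piece_zero (𝓔 : ParSh.Str E) {P : ℚ[X]} (hP : ShStab.IsHilbPoly k X L E P)
    {PX : Fin (𝓔.l + 2) → ℚ[X]}
    (hPX : ∀ j, ShStab.IsHilbPoly k X L ((𝓔.pieceX j : Subobject E) : X.Modules) (PX j)) :
    PX 0 = P := by
  have h := hPX 0
  rw [pieceX_zero] at h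
  exact isHilbPoly_unique k (isHilbPoly_iso k (asIso (⊤ : Subobject E).arrow) h) hP

include hL in
theorem sub_eq_quot {A : Subobject E} (hE : Coh.IsCoh E) (hA : Coh.IsCoh (A : X.Modules))
    {P PA H : ℚ[X]} (hP : ShStab.IsHilbPoly k X L E P)
    (hPA : ShStab.IsHilbPoly k X L (A : X.Modules) PA)
    (hH : ShStab.IsHilbPoly k X L (cokernel A.arrow) H) : P - PA = H :=
  sub_eq_iff_eq_add'.mpr (isHilbPoly_cokernel_add k hL hA A.arrow hE hPA hP hH)

include hL in
theorem nn_sub (hE : Coh.IsCoh E) {A B : Subobject E} (hA : Coh.IsCoh (A : X.Modules))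
    (hB : Coh.IsCoh (B : X.Modules)) (h : A ≤ B) {PA PB : ℚ[X]}
    (hPA : ShStab.IsHilbPoly k X L (A : X.Modules) PA)
    (hPB : ShStab.IsHilbPoly k X L (B : X.Modules) PB) :
    NN (PB - PA) ∧ (PB - PA = 0 → A = B) := by
  haveI := hA.1
  have hC := QCohMod.isCoh_cokernel (Subobject.ofLE A B h) hB
  obtain ⟨pC, hpC⟩ := exists_isHilbPoly k X hL hC
  have e := isHilbPoly_cokernel_add k hL hA (Subobject.ofLE A B h) hB hPA hPB hpC
  refine ⟨by rw [e, add_sub_cancel_left]; exact nn_hilbPoly k hL hC hpC, fun h0 => ?_⟩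
  have := isIso_of_mono_of_eq k hL hA (Subobject.ofLE A B h) hB
    (sub_eq_zero.mp h0 ▸ hPA) hPB
  exact (isIso_iff_eq (E := E) h).mp this

include hL in
/-- Quotients by the pieces have small polynomials. -/
theorem coeff_quot_eq_zero {I : X.IdealSheafData} (hE : Coh.IsCoh E) {𝓔 : ParSh.Str E}
    (h𝓔 : 𝓔.Along I) (hcoh : ∀ j, Coh.IsCoh ((𝓔.pieceX j : Subobject E) : X.Modules)) {d : ℕ}
    (hsupp : topologicalKrullDim ↥(CohB1.support E ∩ (I.support : Set X)) < (d : WithBot ℕ∞))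
    {P : ℚ[X]} (hP : ShStab.IsHilbPoly k X L E P) {PX : Fin (𝓔.l + 2) → ℚ[X]}
    (hPX : ∀ j, ShStab.IsHilbPoly k X L ((𝓔.pieceX j : Subobject E) : X.Modules) (PX j))
    (j : Fin (𝓔.l + 2)) : NN (P - PX j) ∧ ∀ n, d ≤ n → (P - PX j).coeff n = 0 := by
  haveI := (hcoh j).1
  have hC := QCohMod.isCoh_cokernel (𝓔.pieceX j).arrow hE
  obtain ⟨H, hH⟩ := exists_isHilbPoly k X hL hC
  rw [sub_eq_quot k hL hE (hcoh j) hP (hPX j) hH]
  refine ⟨nn_hilbPoly k hL hC hH, fun n hn => ?_⟩
  by_cases hz : IsZero (cokernel (𝓔.pieceX j).arrow)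
  · rw [eq_zero_of_isZero k hz hH, coeff_zero]
  have hsub : CohB1.support (cokernel (𝓔.pieceX j).arrow) ⊆ CohB1.support E ∩ (I.support : Set X) := by
    refine Set.Subset.trans ?_ (support_cokernel_twistSub_subset I E)
    rw [← h𝓔]
    let m : cokernel 𝓔.bot.arrow ⟶ cokernel (𝓔.pieceX j).arrow :=
      cokernel.map _ _ (Subobject.ofLE _ _ (𝓔.bot_le_pieceX j)) (𝟙 E) (by simp)
    have hm : cokernel.π 𝓔.bot.arrow ≫ m = cokernel.π (𝓔.pieceX j).arrow :=
      (cokernel.π_desc _ _ _).trans (Category.id_comp _)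
    haveI : Epi m := epi_of_epi_fac hm
    exact KTheory.Devissage.support_subset_of_epi m
  have hlt : (H.natDegree : WithBot ℕ∞) < (d : WithBot ℕ∞) := by
    rw [← natDegree_eq_dim k hL hC hz hH]
    exact lt_of_le_of_lt (Topology.IsEmbedding.inclusion hsub).isInducing.topologicalKrullDim_le hsupp
  exact coeff_eq_zero_of_natDegree_lt (lt_of_lt_of_le (by exact_mod_cast hlt) hn)

include hL in
theorem coeff_quot_eq_zero_induced {I : X.IdealSheafData} (hE : Coh.IsCoh E) {𝓔 : ParSh.Str E}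
    (h𝓔 : 𝓔.Along I) (hcoh : ∀ j, Coh.IsCoh ((𝓔.pieceX j : Subobject E) : X.Modules)) {d : ℕ}
    (hsupp : topologicalKrullDim ↥(CohB1.support E ∩ (I.support : Set X)) < (d : WithBot ℕ∞))
    (ι : W ⟶ E) [Mono ι] (hW : Coh.IsCoh W)
    {Q : ℚ[X]} (hQ : ShStab.IsHilbPoly k X L W Q) {QX : Fin (𝓔.l + 2) → ℚ[X]}
    (hQX : ∀ j, ShStab.IsHilbPoly k X L (((𝓔.induced ι).pieceX j : Subobject W) : X.Modules) (QX j))
    (j : Fin (𝓔.l + 2)) : NN (Q - QX j) ∧ ∀ n, d ≤ n → (Q - QX j).coeff n = 0 := by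
  have hA := isCoh_induced_pieceX 𝓔 ι hE hW hcoh j
  haveI := hA.1
  haveI := (hcoh j).1
  have hC := QCohMod.isCoh_cokernel ((𝓔.induced ι).pieceX j).arrow hW
  obtain ⟨H, hH⟩ := exists_isHilbPoly k X hL hC
  rw [sub_eq_quot k hL hW hA hQ (hQX j) hH]
  refine ⟨nn_hilbPoly k hL hC hH, fun n hn => ?_⟩
  by_cases hz : IsZero (cokernel ((𝓔.induced ι).pieceX j).arrow)
  · rw [eq_zero_of_isZero k hz hH, coeff_zero]
  have hfac : (𝓔.pieceX j).Factors (((𝓔.induced ι).pieceX j).arrow ≫ ι) :=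
    (Limits.pullback_factors_iff ι (𝓔.pieceX j) _).mp
      (induced_pieceX 𝓔 ι j ▸ Subobject.factors_self _)
  have hsub : CohB1.support (cokernel ((𝓔.induced ι).pieceX j).arrow) ⊆
      CohB1.support E ∩ (I.support : Set X) := by
    refine Set.subset_inter ((KTheory.Devissage.support_subset_of_epi (cokernel.π _)).trans
      (KTheory.Devissage.support_subset_of_mono ι)) ?_
    let m : cokernel ((𝓔.induced ι).pieceX j).arrow ⟶ cokernel (𝓔.pieceX j).arrow :=
      cokernel.map _ _ ((𝓔.pieceX j).factorThru _ hfac) ι (by simp)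
    haveI : Mono m := by
      refine Preadditive.mono_of_cancel_zero m fun {T} ψ hψ => ?_
      let π := cokernel.π ((𝓔.induced ι).pieceX j).arrow
      have h1 : (pullback.snd ψ π ≫ ι) ≫ cokernel.π (𝓔.pieceX j).arrow = 0 := by
        have h := cokernel.π_desc ((𝓔.induced ι).pieceX j).arrow (ι ≫ cokernel.π (𝓔.pieceX j).arrow)
          (by rw [← Category.assoc, ← Subobject.factorThru_arrow _ _ hfac, Category.assoc,
            cokernel.condition, Limits.comp_zero])
        rw [Category.assoc, ← h]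
        change pullback.snd ψ π ≫ π ≫ m = 0
        rw [← Category.assoc, ← pullback.condition, Category.assoc, hψ, Limits.comp_zero]
      let S : ShortComplex X.Modules :=
        ShortComplex.mk (𝓔.pieceX j).arrow (cokernel.π _) (cokernel.condition _)
      have hS : S.Exact := ShortComplex.exact_of_g_is_cokernel _ (cokernelIsCokernel _)
      haveI : Mono S.f := inferInstanceAs (Mono (𝓔.pieceX j).arrow)
      obtain ⟨l, hl⟩ := KernelFork.IsLimit.lift' hS.fIsKernel (pullback.snd ψ π ≫ ι) h1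
      have h2 : ((𝓔.induced ι).pieceX j).Factors (pullback.snd ψ π) := by
        have h3 := (Limits.pullback_factors_iff ι (𝓔.pieceX j) (pullback.snd ψ π)).mpr
          ((Subobject.factors_iff _ _).mpr ⟨l, hl⟩)
        rwa [← induced_pieceX 𝓔 ι j] at h3
      rw [← cancel_epi (pullback.fst ψ π), Limits.comp_zero, pullback.condition,
        ← Subobject.factorThru_arrow _ _ h2, Category.assoc, cokernel.condition, Limits.comp_zero]
    let b : cokernel 𝓔.bot.arrow ⟶ cokernel (𝓔.pieceX j).arrow :=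
      cokernel.map _ _ (Subobject.ofLE _ _ (𝓔.bot_le_pieceX j)) (𝟙 E) (by simp)
    have hb : cokernel.π 𝓔.bot.arrow ≫ b = cokernel.π (𝓔.pieceX j).arrow :=
      (cokernel.π_desc _ _ _).trans (Category.id_comp _)
    haveI : Epi b := epi_of_epi_fac hb
    refine ((KTheory.Devissage.support_subset_of_mono m).trans
      (KTheory.Devissage.support_subset_of_epi b)).trans ?_
    rw [h𝓔]
    exact (support_cokernel_twistSub_subset I E).trans Set.inter_subset_right
  have hlt : (H.natDegree : WithBot ℕ∞) < (d : WithBot ℕ∞) := by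
    rw [← natDegree_eq_dim k hL hC hz hH]
    exact lt_of_le_of_lt (Topology.IsEmbedding.inclusion hsub).isInducing.topologicalKrullDim_le hsupp
  exact coeff_eq_zero_of_natDegree_lt (lt_of_lt_of_le (by exact_mod_cast hlt) hn)

include hL in
theorem parPoly_induced_eq (𝓔 : ParSh.Str E) (ι : W ⟶ E) {Q : ℚ[X]}
    (hQ : ShStab.IsHilbPoly k X L W Q) {QX : Fin (𝓔.l + 2) → ℚ[X]}
    (hQX : ∀ j, ShStab.IsHilbPoly k X L (((𝓔.induced ι).pieceX j : Subobject W) : X.Modules) (QX j)) :
    parPoly (𝓔.induced ι) QX =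
      rpoly Q - ∑ j : Fin (𝓔.l + 1), Polynomial.C (step 𝓔 j) * rpoly (Q - QX j.succ) :=
  parPoly_eq (𝓔.induced ι) Q QX (isHilbPoly_piece_zero k hL (𝓔.induced ι) hQ hQX)

end Groth.HilbStab.Par
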